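import Mathlib.RingTheory.Etale.Locus
import Mathlib.RingTheory.Etale.Kaehler
import Mathlib.RingTheory.LocalRing.Module
import Mathlib.RingTheory.LocalRing.ResidueField.Basic
import Mathlib.RingTheory.Ideal.Cotangent
import Mathlib.RingTheory.Kaehler.JacobiZariski
import Mathlib.RingTheory.EssentialFiniteness
import Mathlib.LinearAlgebra.Dual.Lemmas

/-!
# Étaleness along a section from bijectivity on conormal modules
-/

set_option autoImplicit false
set_option maxHeartbeats 800000
set_option linter.style.haveILetI false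

universe u

open TensorProduct KaehlerDifferential

namespace GrothLib.EtaleSection26

/-- A nonzero finite module over a local ring has a nonzero functional to the residue field. -/
theorem exists_functional {S : Type u} [CommRing S] [IsLocalRing S] (K : Type u) [AddCommGroup K] [Module S K]
    [Module.Finite S K] [Nontrivial K] : ∃ l : K →ₗ[S] IsLocalRing.ResidueField S, l ≠ 0 := by
  haveI : Nontrivial (IsLocalRing.ResidueField S ⊗[S] K) := by
    rw [← not_subsingleton_iff_nontrivial, IsLocalRing.subsingleton_tensorProduct]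
    exact not_subsingleton K
  obtain ⟨z, hz⟩ := exists_ne (0 : IsLocalRing.ResidueField S ⊗[S] K)
  obtain ⟨l, hl⟩ := Module.Projective.exists_dual_ne_zero (IsLocalRing.ResidueField S) hz
  refine ⟨(l.restrictScalars S).comp (TensorProduct.mk S (IsLocalRing.ResidueField S) K 1), fun h => hl ?_⟩
  clear hz hl
  induction z using TensorProduct.induction_on with
  | zero => exact map_zero l
  | tmul c x =>
    have h1 : l ((1 : IsLocalRing.ResidueField S) ⊗ₜ[S] x) = 0 := LinearMap.congr_fun h x
    have h2 : c ⊗ₜ[S] x = c • ((1 : IsLocalRing.ResidueField S) ⊗ₜ[S] x) := by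
      rw [TensorProduct.smul_tmul', smul_eq_mul, mul_one]
    rw [h2, map_smul, h1, smul_zero]
  | add a b ha hb => rw [map_add, ha, hb, add_zero]

/-- The nilpotent part with respect to a section. -/
def proj {A B : Type u} [CommRing A] [CommRing B] [Algebra A B] (σ : B →ₐ[A] A) : B →ₗ[A] RingHom.ker σ :=
  LinearMap.codRestrict ((RingHom.ker σ).restrictScalars A)
    (LinearMap.id - (Algebra.linearMap A B).comp σ.toLinearMap) fun b => by
      show σ (b - algebraMap A B (σ b)) = 0
      rw [map_sub, AlgHom.commutes, Algebra.algebraMap_self, RingHom.id_apply, sub_self]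

theorem proj_val {A B : Type u} [CommRing A] [CommRing B] [Algebra A B] (σ : B →ₐ[A] A) (b : B) :
    (proj σ b : B) = b - algebraMap A B (σ b) := rfl

theorem toCotangent_proj_mul {A B : Type u} [CommRing A] [CommRing B] [Algebra A B] (σ : B →ₐ[A] A) (a b : B) :
    (RingHom.ker σ).toCotangent (proj σ (a * b)) =
      σ a • (RingHom.ker σ).toCotangent (proj σ b) + σ b • (RingHom.ker σ).toCotangent (proj σ a) := by
  rw [← LinearMap.map_smul_of_tower (RingHom.ker σ).toCotangent, ← LinearMap.map_smul_of_tower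
    (RingHom.ker σ).toCotangent, ← map_add, Ideal.toCotangent_eq]
  have e : ((proj σ (a * b) : B) - ((σ a • proj σ b + σ b • proj σ a : RingHom.ker σ) : B)) =
      (proj σ a : B) * proj σ b := by
    simp only [Submodule.coe_add, Submodule.coe_smul_of_tower, proj_val, Algebra.smul_def, map_mul]
    ring
  rw [e, pow_two]
  exact Ideal.mul_mem_mul (proj σ a).2 (proj σ b).2

variable (A B₁ B₂ : Type u) [CommRing A] [CommRing B₁] [CommRing B₂] [Algebra A B₁] [Algebra A B₂] [Algebra B₂ B₁]
  [IsScalarTower A B₂ B₁] [Algebra.FinitePresentation A B₁] [Algebra.FiniteType A B₂]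

theorem isEtaleAt (σ₁ : B₁ →ₐ[A] A) (σ₂ : B₂ →ₐ[A] A) (hσ : σ₁.comp (IsScalarTower.toAlgHom A B₂ B₁) = σ₂)
    (hle : RingHom.ker σ₂ ≤ (RingHom.ker σ₁).comap (IsScalarTower.toAlgHom A B₂ B₁))
    (hcot : Function.Bijective
      (Ideal.mapCotangent (RingHom.ker σ₂) (RingHom.ker σ₁) (IsScalarTower.toAlgHom A B₂ B₁) hle))
    (P : Ideal B₁) [P.IsPrime] (hP : RingHom.ker σ₁ ≤ P) [Algebra.IsSmoothAt A P] : Algebra.IsEtaleAt B₂ P := by
  classical
  let S := Localization.AtPrime P
  let κ := IsLocalRing.ResidueField S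
  have hσ' : ∀ x, σ₁ (algebraMap B₂ B₁ x) = σ₂ x := fun x => AlgHom.congr_fun hσ x
  have hkill : ∀ b ∈ RingHom.ker σ₁, algebraMap B₁ κ b = 0 := fun b hb => by
    rw [IsScalarTower.algebraMap_apply B₁ S κ, IsLocalRing.ResidueField.algebraMap_eq, IsLocalRing.residue_eq_zero_iff]
    exact (IsLocalization.AtPrime.to_map_mem_maximal_iff S P b).2 (hP hb)
  have hact : ∀ (b : B₁) (m : κ), b • m = σ₁ b • m := fun b m => by
    have h : algebraMap B₁ κ (proj σ₁ b) = 0 := hkill _ (proj σ₁ b).2
    rw [proj_val, map_sub, sub_eq_zero, ← IsScalarTower.algebraMap_apply] at h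
    rw [Algebra.smul_def, Algebra.smul_def, h]
  have hact₂ : ∀ (b : B₂) (m : κ), b • m = σ₂ b • m := fun b m => by
    rw [← algebraMap_smul B₁ b m, hact, hσ']
  let φ := KaehlerDifferential.mapBaseChange A B₂ S
  let e₁ := KaehlerDifferential.tensorKaehlerEquivOfFormallyEtale A B₁ S
  haveI : Module.Finite B₂ Ω[B₂⁄A] := inferInstance
  haveI : Module.Finite S (S ⊗[B₂] Ω[B₂⁄A]) := Module.Finite.base_change B₂ S Ω[B₂⁄A]
  have hM : ∀ (l : S ⊗[B₂] Ω[B₂⁄A] →ₗ[S] κ), (∀ b, l (1 ⊗ₜ KaehlerDifferential.D A B₂ b) = 0) → l = 0 := by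
    intro l hl
    refine TensorProduct.AlgebraTensorModule.ext fun s ω => ?_
    have h1 : l (1 ⊗ₜ[B₂] ω) = 0 := by
      have hω : ω ∈ Submodule.span B₂ (Set.range (KaehlerDifferential.D A B₂)) := by
        rw [KaehlerDifferential.span_range_derivation]; trivial
      induction hω using Submodule.span_induction with
      | mem x hx => obtain ⟨b, rfl⟩ := hx; exact hl b
      | zero => rw [tmul_zero, map_zero]
      | add x y _ _ hx hy => rw [tmul_add, map_add, hx, hy, add_zero]
      | smul r x _ hx => rw [tmul_smul, ← IsScalarTower.algebraMap_smul S r, map_smul, hx, smul_zero]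
    rw [LinearMap.zero_apply, show (s ⊗ₜ[B₂] ω) = s • ((1 : S) ⊗ₜ[B₂] ω) by
      rw [TensorProduct.smul_tmul', smul_eq_mul, mul_one], map_smul, h1, smul_zero]
  have hN : ∀ (l : Ω[S⁄A] →ₗ[S] κ), (∀ x : B₂, l (D A S (algebraMap B₂ S x)) = 0) → l = 0 := by
    intro l hl
    have hmul : ∀ a c : B₁, l (D A S (algebraMap B₁ S (a * c))) =
        σ₁ a • l (D A S (algebraMap B₁ S c)) + σ₁ c • l (D A S (algebraMap B₁ S a)) := fun a c => by
      rw [map_mul, Derivation.leibniz, map_add, map_smul, map_smul, algebraMap_smul, algebraMap_smul, hact, hact c]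
    have hconst : ∀ a : A, l (D A S (algebraMap A S a)) = 0 := fun a => by rw [Derivation.map_algebraMap, map_zero]
    have hsq : ∀ b ∈ RingHom.ker σ₁ ^ 2, l (D A S (algebraMap B₁ S b)) = 0 := by
      intro b hb
      rw [pow_two] at hb
      refine Submodule.mul_induction_on hb (fun x hx y hy => ?_) fun x y hx hy => ?_
      · rw [hmul, (RingHom.mem_ker.1 hx), (RingHom.mem_ker.1 hy), zero_smul, zero_smul, add_zero]
      · rw [map_add, map_add, map_add, hx, hy, add_zero]
    have hall : ∀ b : B₁, l (D A S (algebraMap B₁ S b)) = 0 := by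
      intro b
      obtain ⟨y, hy⟩ := hcot.2 ((RingHom.ker σ₁).toCotangent (proj σ₁ b))
      obtain ⟨x, rfl⟩ := Ideal.toCotangent_surjective _ y
      rw [Ideal.mapCotangent_toCotangent, Ideal.toCotangent_eq] at hy
      have h := hsq _ hy
      change l (D A S (algebraMap B₁ S (algebraMap B₂ B₁ (x : B₂) - (proj σ₁ b : B₁)))) = 0 at h
      rw [proj_val, map_sub, map_sub, map_sub, map_sub, map_sub, map_sub, ← IsScalarTower.algebraMap_apply B₂ B₁ S,
        hl, ← IsScalarTower.algebraMap_apply A B₁ S, hconst, sub_zero, zero_sub, neg_eq_zero] at h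
      exact h
    have : l.comp e₁.toLinearMap = 0 := by
      refine TensorProduct.AlgebraTensorModule.ext fun s ω => ?_
      have h1 : l (e₁ (1 ⊗ₜ[B₁] ω)) = 0 := by
        have hω : ω ∈ Submodule.span B₁ (Set.range (KaehlerDifferential.D A B₁)) := by
          rw [KaehlerDifferential.span_range_derivation]; trivial
        induction hω using Submodule.span_induction with
        | mem x hx =>
          obtain ⟨b, rfl⟩ := hx
          rw [show e₁ (1 ⊗ₜ[B₁] D A B₁ b) = D A S (algebraMap B₁ S b) by
            simp [e₁, KaehlerDifferential.tensorKaehlerEquivOfFormallyEtale_apply]]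
          exact hall b
        | zero => rw [tmul_zero, map_zero, map_zero]
        | add x y _ _ hx hy => rw [tmul_add, map_add, map_add, hx, hy, add_zero]
        | smul r x _ hx => rw [tmul_smul, ← IsScalarTower.algebraMap_smul S r, map_smul, map_smul, hx, smul_zero]
      show l (e₁ (s ⊗ₜ[B₁] ω)) = 0
      rw [show (s ⊗ₜ[B₁] ω) = s • ((1 : S) ⊗ₜ[B₁] ω) by rw [TensorProduct.smul_tmul', smul_eq_mul, mul_one],
        map_smul, map_smul, h1, smul_zero]
    refine LinearMap.ext fun ω => ?_
    have := LinearMap.congr_fun this (e₁.symm ω)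
    simpa using this
  -- surjectivity
  have hsurj : Function.Surjective φ := by
    by_contra hne
    haveI : Nontrivial (Ω[S⁄A] ⧸ LinearMap.range φ) :=
      Submodule.Quotient.nontrivial_iff.2 fun h => hne (LinearMap.range_eq_top.1 h)
    obtain ⟨l, hl⟩ := exists_functional (S := S) (Ω[S⁄A] ⧸ LinearMap.range φ)
    refine hl (Submodule.linearMap_qext _ ((hN _ fun x => ?_).trans (LinearMap.zero_comp _).symm))
    have hr : D A S (algebraMap B₂ S x) ∈ LinearMap.range φ := ⟨1 ⊗ₜ D A B₂ x, by simp [φ]⟩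
    show l ((LinearMap.range φ).mkQ _) = 0
    rw [Submodule.mkQ_apply, (Submodule.Quotient.mk_eq_zero _).2 hr, map_zero]
  -- injectivity
  have hinj : Function.Injective φ := by
    obtain ⟨s, hs⟩ := Module.projective_lifting_property φ LinearMap.id hsurj
    let pK : S ⊗[B₂] Ω[B₂⁄A] →ₗ[S] LinearMap.ker φ :=
      LinearMap.codRestrict _ (LinearMap.id - s.comp φ) fun m => by
        simp only [LinearMap.mem_ker, LinearMap.sub_apply, LinearMap.id_apply, LinearMap.comp_apply, map_sub]
        rw [← LinearMap.comp_apply φ s, hs, LinearMap.id_apply, sub_self]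
    haveI : Module.Finite S (LinearMap.ker φ) := Module.Finite.of_surjective pK fun m => ⟨m, by
      ext
      simp [pK, LinearMap.mem_ker.1 m.2]⟩
    rw [← LinearMap.ker_eq_bot]
    by_contra hne
    haveI : Nontrivial (LinearMap.ker φ) := Submodule.nontrivial_iff_ne_bot.2 hne
    obtain ⟨l₀, hl₀⟩ := exists_functional (S := S) (LinearMap.ker φ)
    let l : S ⊗[B₂] Ω[B₂⁄A] →ₗ[S] κ := l₀.comp pK
    -- the derivation of `B₂`
    let δ : B₂ →ₗ[A] κ := (l.restrictScalars A).comp
      ((((TensorProduct.mk B₂ S Ω[B₂⁄A]) 1).restrictScalars A).comp (D A B₂).toLinearMap)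
    have hδ : ∀ a c : B₂, δ (a * c) = σ₂ a • δ c + σ₂ c • δ a := fun a c => by
      show l (1 ⊗ₜ D A B₂ (a * c)) = σ₂ a • l (1 ⊗ₜ D A B₂ c) + σ₂ c • l (1 ⊗ₜ D A B₂ a)
      rw [Derivation.leibniz, tmul_add, tmul_smul, tmul_smul, map_add, LinearMap.map_smul_of_tower,
        LinearMap.map_smul_of_tower, hact₂, hact₂]
    have hδA : ∀ a : A, δ (algebraMap A B₂ a) = 0 := fun a => by
      show l (1 ⊗ₜ D A B₂ (algebraMap A B₂ a)) = 0
      rw [Derivation.map_algebraMap, tmul_zero, map_zero]
    let lcot : (RingHom.ker σ₂).Cotangent →ₗ[A] κ :=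
      Ideal.Cotangent.lift (δ.comp ((RingHom.ker σ₂).restrictScalars A).subtype) fun x y => by
        show δ ((x : B₂) * y) = 0
        rw [hδ, RingHom.mem_ker.1 x.2, RingHom.mem_ker.1 y.2, zero_smul, zero_smul, add_zero]
    let g := (LinearEquiv.ofBijective _ hcot).symm.toLinearMap
    let D₁ : Derivation A B₁ κ := Derivation.mk'
      (lcot.comp (g.comp (((RingHom.ker σ₁).toCotangent.restrictScalars A).comp (proj σ₁)))) fun a b => by
        simp only [LinearMap.comp_apply, LinearMap.restrictScalars_apply, toCotangent_proj_mul, map_add, map_smul,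
          hact]
    let l₁ : Ω[S⁄A] →ₗ[S] κ := (D₁.liftKaehlerDifferential.liftBaseChange S).comp e₁.symm.toLinearMap
    have hext : l₁.comp φ = l := by
      rw [← sub_eq_zero]
      refine hM _ fun x => ?_
      rw [LinearMap.sub_apply, LinearMap.comp_apply, sub_eq_zero]
      show D₁.liftKaehlerDifferential.liftBaseChange S (e₁.symm (φ (1 ⊗ₜ D A B₂ x))) = _
      rw [show φ (1 ⊗ₜ D A B₂ x) = D A S (algebraMap B₁ S (algebraMap B₂ B₁ x)) by
          simp [φ, ← IsScalarTower.algebraMap_apply],
        KaehlerDifferential.tensorKaehlerEquivOfFormallyEtale_symm_D_algebraMap, LinearMap.liftBaseChange_tmul,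
        one_smul, Derivation.liftKaehlerDifferential_comp_D]
      show lcot (g ((RingHom.ker σ₁).toCotangent (proj σ₁ (algebraMap B₂ B₁ x)))) = δ x
      have hg : g ((RingHom.ker σ₁).toCotangent (proj σ₁ (algebraMap B₂ B₁ x))) =
          (RingHom.ker σ₂).toCotangent (proj σ₂ x) := by
        apply (LinearEquiv.ofBijective _ hcot).injective
        show LinearEquiv.ofBijective _ hcot ((LinearEquiv.ofBijective _ hcot).symm _) = _
        rw [LinearEquiv.apply_symm_apply]
        show _ = Ideal.mapCotangent _ _ _ hle _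
        rw [Ideal.mapCotangent_toCotangent]
        congr 1
        ext
        show algebraMap B₂ B₁ x - algebraMap A B₁ (σ₁ (algebraMap B₂ B₁ x)) =
          algebraMap B₂ B₁ (x - algebraMap A B₂ (σ₂ x))
        rw [map_sub, hσ', ← IsScalarTower.algebraMap_apply]
      rw [hg]
      show δ (x - algebraMap A B₂ (σ₂ x)) = δ x
      rw [map_sub, hδA, sub_zero]
    refine hl₀ (LinearMap.ext fun m => ?_)
    have h := LinearMap.congr_fun hext (m : S ⊗[B₂] Ω[B₂⁄A])
    rw [LinearMap.comp_apply, LinearMap.mem_ker.1 m.2, map_zero] at h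
    have hpm : pK (m : S ⊗[B₂] Ω[B₂⁄A]) = m := by ext; simp [pK, LinearMap.mem_ker.1 m.2]
    rw [LinearMap.comp_apply, hpm] at h
    exact h.symm
  have hΩ : Subsingleton Ω[S⁄B₂] := by
    refine subsingleton_of_forall_eq 0 fun ω => ?_
    obtain ⟨η, rfl⟩ := KaehlerDifferential.map_surjective A B₂ S ω
    exact (KaehlerDifferential.exact_mapBaseChange_map A B₂ S η).2 (hsurj η)
  have hH : Subsingleton (Algebra.H1Cotangent B₂ S) := by
    refine subsingleton_of_forall_eq 0 fun z => ?_
    have h1 : Algebra.H1Cotangent.δ A B₂ S z = 0 := hinj (by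
      rw [map_zero]
      exact (Algebra.H1Cotangent.exact_δ_mapBaseChange A B₂ S).apply_apply_eq_zero z)
    obtain ⟨w, rfl⟩ := (Algebra.H1Cotangent.exact_map_δ A B₂ S z).1 h1
    rw [Subsingleton.elim w 0, map_zero]
  exact ⟨hΩ, hH⟩

end GrothLib.EtaleSection26
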